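import Groth.Agent.CommUnipExactLib.Sch
import Groth.Agent.MultExtSchLib.PowFinite
import Groth.Agent.GaDualLib.AlphaExt
import Groth.Agent.MultType.Power
import Groth.Agent.MultType.Field

/-!
A quasi-complement of the largest subgroup of multiplicative type.
-/

set_option autoImplicit false
set_option backward.isDefEq.respectTransparency false
set_option backward.isDefEq.respectTransparency.types false
set_option linter.unusedSectionVars false
set_option linter.style.haveILetI false
set_option maxHeartbeats 1000000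
set_option synthInstance.maxHeartbeats 400000

universe u

open CategoryTheory CategoryTheory.Limits MonoidalCategory CartesianMonoidalCategory MonObj GrpObj AlgebraicGeometry
open TensorProduct WithConv
open scoped TensorProduct

noncomputable section

attribute [-instance] CategoryTheory.Hom.commGroup

namespace Groth.Agent.CommUnipSch

open MuGLLib TorusField MultExtCentral

variable {k : Type u} [Field k]

local notation "Sk" => Over (Spec (CommRingCat.of k))

/-- A morphism is surjective if geometric points lift. -/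
theorem surjective_of_geom {X G : Sk} (f : X ⟶ G)
    (h : ∀ (Ω : Type u) [Field Ω] [IsAlgClosed Ω] [Algebra k Ω] (x : W k Ω ⟶ G), ∃ L : W k Ω ⟶ X, L ≫ f = x) :
    Surjective f.left := by
  refine ⟨fun z => ?_⟩
  let Ω := AlgebraicClosure (G.left.residueField z)
  let m : Spec (CommRingCat.of Ω) ⟶ G.left :=
    Spec.map (CommRingCat.ofHom (algebraMap (G.left.residueField z) Ω)) ≫ G.left.fromSpecResidueField z
  obtain ⟨σ, hσ⟩ := Spec.map_surjective (m ≫ G.hom)
  letI : Algebra k Ω := σ.hom.toAlgebra
  let x : W k Ω ⟶ G := Over.homMk m hσ.symm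
  obtain ⟨L, hL⟩ := h Ω x
  refine ⟨L.left (IsLocalRing.closedPoint Ω), ?_⟩
  calc f.left (L.left (IsLocalRing.closedPoint Ω)) = (L ≫ f).left (IsLocalRing.closedPoint Ω) := rfl
    _ = m (IsLocalRing.closedPoint Ω) := by rw [hL]; rfl
    _ = z := Scheme.fromSpecResidueField_apply z _

/-- A finite intersection as an object over the base gives a finite intersection of the schemes. -/
theorem isFinite_inter {G M H : Sk} (j : M ⟶ G) (h : H ⟶ G) (hK : IsFinite (pullback j h).hom) :
    IsFinite (pullback.fst j.left h.left ≫ M.hom) := by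
  have hpb := MultExtSch.isPullback_left (IsPullback.of_hasPullback j h)
  rw [← hpb.isoPullback_inv_fst, Category.assoc, MorphismProperty.cancel_left_of_respectsIso @IsFinite]
  rw [Over.w]
  exact hK

/-- Geometric points of a group of multiplicative type are `p`-power divisible in characteristic `p`. -/
theorem exists_root {C : Type u} [CommRing C] [HopfAlgebra k C] [Algebra.FiniteType k C]
    (hC : SGA3b.IsMultTypeConst k C) (p N : ℕ) [Fact p.Prime] [CharP k p] (Ω : Type u) [Field Ω] [IsAlgClosed Ω]
    [Algebra k Ω] (γ₀ : C →ₐ[k] Ω) : ∃ y : C →ₐ[k] Ω, y.comp (SGA3b.powConv k C (p ^ N)) = γ₀ := by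
  obtain ⟨R', _, _, _, hD⟩ := hC
  obtain ⟨k', _, _, _, _, hD'⟩ := MultType.exists_separable_split (inferInstance : Algebra.FiniteType k C)
    (MultType.isMultType_of_ff R' hD)
  obtain ⟨X, _, -, ⟨e'⟩⟩ := hD'
  let jΩ : k' →ₐ[k] Ω := IsAlgClosed.lift
  obtain ⟨Y, _, ⟨e⟩⟩ := MultType.isDiag_of_algHom jΩ (A := C) ⟨X, inferInstance, ⟨e'⟩⟩
  haveI : CharP Ω p := charP_of_injective_algebraMap (algebraMap k Ω).injective p
  haveI : ExpChar Ω p := ExpChar.prime Fact.out
  let L : Ω ⊗[k] C →ₐ[Ω] Ω := Algebra.TensorProduct.lift (AlgHom.id Ω Ω) γ₀ (fun _ _ => Commute.all _ _)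
  let P : MonoidAlgebra Ω Y →ₐ[Ω] Ω := L.comp (e.symm : MonoidAlgebra Ω Y ≃ₐ[Ω] Ω ⊗[k] C).toAlgHom
  have hP : ∀ c, P (MultType.emb e c) = γ₀ c := fun c => by
    show L (e.symm (e ((1 : Ω) ⊗ₜ[k] c))) = _
    rw [show e.symm (e ((1 : Ω) ⊗ₜ[k] c)) = (1 : Ω) ⊗ₜ[k] c from e.symm_apply_apply _]
    simp [L]
  let r := (iterateFrobeniusEquiv Ω p N).symm
  let ρ : Y →* Ω := r.toRingHom.toMonoidHom.comp (P.toRingHom.toMonoidHom.comp (MonoidAlgebra.of Ω Y))
  let Q : MonoidAlgebra Ω Y →ₐ[Ω] Ω := MonoidAlgebra.lift Ω Ω Y ρ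
  have hQ : ∀ z, Q (MultType.pw (p ^ N) z) = P z := fun z => by
    induction z using MonoidAlgebra.induction_linear with
    | zero => simp
    | add a b ha hb => rw [map_add, map_add, map_add, ha, hb]
    | single m s =>
      have hr : ρ (m ^ p ^ N) = P (MonoidAlgebra.single m 1) := by
        rw [map_pow]
        show (r (P (MonoidAlgebra.of Ω Y m))) ^ p ^ N = _
        rw [← iterateFrobeniusEquiv_def (R := Ω) (p := p) (n := N)]
        exact (iterateFrobeniusEquiv Ω p N).apply_symm_apply _
      rw [MultType.pw_single, MonoidAlgebra.lift_single, hr, ← map_smul]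
      simp
  refine ⟨(Q.restrictScalars k).comp (MultType.emb e), AlgHom.ext fun c => ?_⟩
  show Q (MultType.emb e (SGA3b.powConv k C (p ^ N) c)) = _
  rw [MultType.emb_powConv, hQ, hP]

/-- The power map in coordinates. -/
theorem comp_pow_id {G : Sk} [GrpObj G] {A : Type u} [CommRing A] [HopfAlgebra k A] (eA : specGrp k A ≅ Grp.mk G)
    (n : ℕ) : (eA.hom.hom.hom : W k A ⟶ G) ≫ (𝟙 G ^ n) = wmap (SGA3b.powConv k A n) ≫ eA.hom.hom.hom := by
  haveI : IsMonHom (eA.hom.hom.hom : W k A ⟶ G) := eA.hom.hom.isMonHom_hom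
  have h1 : (𝟙 (W k A) ^ n : W k A ⟶ W k A) = wmap (SGA3b.powConv k A n) := by
    rw [← wmap_id (R := k) A, ← mapMulEquiv_apply, ← mapMulEquiv_apply, ← map_pow]
    rfl
  rw [MonObj.comp_pow, Category.comp_id, ← h1, MonObj.pow_comp, Category.id_comp]

/-- A quasi-complement of the largest subgroup of multiplicative type. -/
theorem exists_quasiComplement
    (G : Sk) [GrpObj G] [IsCommMonObj G] [IsAffine G.left] [LocallyOfFiniteType G.hom]
    (M : Sk) [GrpObj M] (j : M ⟶ G) [IsMonHom j] [IsClosedImmersion j.left] (hM : SGA3x.IsMultTypeFT M)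
    (hMmax : ∀ (M' : Sk) [GrpObj M'] (j' : M' ⟶ G) [IsMonHom j']
      [IsClosedImmersion j'.left], SGA3x.IsMultTypeFT M' → ∃ g : M' ⟶ M, g ≫ j = j') :
    ∃ (H : Sk) (_ : GrpObj H) (h : H ⟶ G), IsMonHom h ∧ IsClosedImmersion h.left ∧
      Surjective ((j ⊗ₘ h) ≫ μ[G]).left ∧
      IsFinite (pullback.fst j.left h.left ≫ M.hom) := by
  obtain ⟨A, _, _, _, _, ⟨eA⟩⟩ := exists_rep G
  haveI : IsAffineHom M.hom := by rw [← Over.w j]; infer_instance
  haveI : LocallyOfFiniteType M.hom := by rw [← Over.w j]; infer_instance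
  haveI : IsSeparated M.hom := by rw [← Over.w j]; infer_instance
  obtain ⟨C, _, _, ⟨eC⟩⟩ := MultBridge.exists_hopf k M
  haveI : Algebra.FiniteType k C := by
    have h := MultBridge.prop_algebraMap eC @LocallyOfFiniteType inferInstance
    rw [HasRingHomProperty.Spec_iff (P := @LocallyOfFiniteType)] at h
    exact RingHom.finiteType_algebraMap.1 h
  obtain ⟨φ, hφ⟩ := exists_hom eC eA j
  let a : W k A ⟶ G := eA.hom.hom.hom
  let c : W k C ⟶ M := eC.hom.hom.hom
  haveI : IsMonHom a := eA.hom.hom.isMonHom_hom
  haveI : IsMonHom c := eC.hom.hom.isMonHom_hom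
  haveI : IsIso a := ((Grp.forget _).mapIso eA).isIso_hom
  haveI : IsIso c := ((Grp.forget _).mapIso eC).isIso_hom
  haveI : IsMonHom (inv a) := inferInstanceAs (IsMonHom (asIso a).inv)
  haveI : IsMonHom (inv c) := inferInstanceAs (IsMonHom (asIso c).inv)
  haveI : Mono j := (Over.forget _).mono_of_mono_map (inferInstanceAs (Mono j.left))
  have hs : Function.Surjective (φ : A →ₐ[k] C) := surjective_of_closed a c j _ hφ
  haveI := MultBridge.isCocomm_of_surjective φ hs
  have hk := ker_eq_multIdeal eA j hM hMmax eC φ hφ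
  have hC := isMultTypeConst_of_FT hM eC
  rcases CharP.char_is_prime_or_zero k (ringChar k) with hp | h0
  · set p := ringChar k
    haveI : Fact p.Prime := ⟨hp⟩
    obtain ⟨N, hN⟩ := CommUnip.exists_powConv_multIdeal (k := k) (A := A) p
    have hn : 0 < p ^ N := pow_pos hp.pos N
    obtain ⟨δ, hδ⟩ : ∃ δ : C →ₐ[k] A, δ.comp (φ : A →ₐ[k] C) = SGA3b.powConv k A (p ^ N) := by
      refine ⟨(Ideal.Quotient.liftₐ _ (SGA3b.powConv k A (p ^ N)) fun x hx => hN x (hk.le hx)).comp
        (Ideal.quotientKerAlgEquivOfSurjective hs).symm.toAlgHom, AlgHom.ext fun x => ?_⟩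
      have : (Ideal.quotientKerAlgEquivOfSurjective hs).symm ((φ : A →ₐ[k] C) x) = Ideal.Quotient.mk _ x :=
        (AlgEquiv.symm_apply_eq _).2 (Ideal.quotientKerAlgEquivOfSurjective_apply hs x).symm
      show Ideal.Quotient.lift (RingHom.ker (φ : A →ₐ[k] C)) (SGA3b.powConv k A (p ^ N)).toRingHom
        (fun x hx => hN x (hk.le hx))
        ((Ideal.quotientKerAlgEquivOfSurjective hs).symm ((φ : A →ₐ[k] C) x)) = _
      exact (congrArg (Ideal.Quotient.lift _ _ _) this).trans (Ideal.Quotient.lift_mk _ _ _)
    let v : G ⟶ G := 𝟙 G ^ (p ^ N)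
    have hvp : ∀ {T : Sk} (x : T ⟶ G), x ≫ v = x ^ (p ^ N) := fun x => by
      rw [MonObj.comp_pow, Category.comp_id]
    haveI : IsMonHom v := GaDualLib.AlphaExt.isMonHom_of_mul v fun {T} x y => by
      letI : CommMonoid (T ⟶ G) := { (inferInstance : Monoid (T ⟶ G)) with mul_comm := points_comm G }
      rw [hvp, hvp, hvp, mul_pow]
    let r : G ⟶ M := inv a ≫ wmap δ ≫ c
    have hr : r ≫ j = v := by
      have h1 : a ≫ v = wmap (SGA3b.powConv k A (p ^ N)) ≫ a := comp_pow_id eA _
      rw [← cancel_epi a]
      simp only [r, Category.assoc, IsIso.hom_inv_id_assoc]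
      rw [hφ, ← Category.assoc, wmap_comp, hδ, h1]
    obtain ⟨_, hH⟩ := GrpQuotLib.exists_grpObj_kernel v
    let H := pullback v η[G]
    let h : H ⟶ G := pullback.fst v η[G]
    haveI : IsMonHom h := hH
    have hpb := MultExtSch.isPullback_left (IsPullback.of_hasPullback v η[G])
    haveI : IsClosedImmersion η[G].left := by
      haveI : IsClosedImmersion (η[G].left ≫ G.hom) := by
        rw [show η[G].left ≫ G.hom = 𝟙 _ from Over.w η[G]]
        exact (inferInstance : IsClosedImmersion (𝟙 (Spec (CommRingCat.of k))))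
      exact IsClosedImmersion.of_comp η[G].left G.hom
    haveI : IsClosedImmersion h.left := MorphismProperty.of_isPullback hpb.flip inferInstance
    have hh : h ≫ v = 1 := by
      rw [Hom.one_def, toUnit_unique (toUnit H) (pullback.snd v η[G])]
      exact pullback.condition
    refine ⟨H, inferInstance, h, inferInstance, inferInstance, surjective_of_geom _ fun Ω _ _ _ x => ?_,
      isFinite_inter j h ?_⟩
    · obtain ⟨γ₁, hγ₁⟩ := exists_wmap (x ≫ r ≫ inv c)
      obtain ⟨y, hy⟩ := exists_root hC p N Ω γ₁
      let z : W k Ω ⟶ M := wmap y ≫ c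
      have hz : z ^ (p ^ N) = x ≫ r := by
        calc z ^ (p ^ N) = wmap y ≫ (c ≫ (𝟙 M ^ (p ^ N))) := by
              rw [← Category.assoc, MonObj.comp_pow, Category.comp_id]
          _ = wmap y ≫ wmap (SGA3b.powConv k C (p ^ N)) ≫ c := by rw [comp_pow_id eC]
          _ = x ≫ r := by rw [← Category.assoc, wmap_comp, hy, hγ₁]; simp
      obtain ⟨l, hl⟩ : ∃ l : W k Ω ⟶ H, l ≫ h = (z ≫ j)⁻¹ * x := by
        refine ⟨pullback.lift ((z ≫ j)⁻¹ * x) (toUnit _) ?_, pullback.lift_fst _ _ _⟩
        rw [MonObj.mul_comp, GrpObj.inv_comp, hvp, hvp, ← MonObj.pow_comp, hz, Category.assoc, hr, hvp,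
          inv_mul_cancel, Hom.one_def]
      refine ⟨lift z l, ?_⟩
      rw [← Category.assoc, lift_map, ← Hom.mul_def, hl, mul_inv_cancel_left]
    · let K := pullback j h
      haveI : IsCommMonObj M := ⟨by
        rw [← cancel_mono j, Category.assoc, IsMonHom.mul_hom j, ← Category.assoc]
        rw [← BraidedCategory.braiding_naturality, Category.assoc, IsCommMonObj.mul_comm G]⟩
      haveI : IsFinite (𝟙 M ^ (p ^ N) : M ⟶ M).left := MultExtSch.isFinite_pow hM _ hn
      let P := pullback (𝟙 M ^ (p ^ N) : M ⟶ M) η[M]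
      have hpP := MultExtSch.isPullback_left (IsPullback.of_hasPullback (𝟙 M ^ (p ^ N) : M ⟶ M) η[M])
      haveI : IsFinite (pullback.snd (𝟙 M ^ (p ^ N) : M ⟶ M) η[M]).left :=
        MorphismProperty.of_isPullback hpP inferInstance
      have hPf : IsFinite P.hom := by
        rw [← Over.w (pullback.snd (𝟙 M ^ (p ^ N) : M ⟶ M) η[M])]
        exact (inferInstance : IsFinite ((pullback.snd (𝟙 M ^ (p ^ N) : M ⟶ M) η[M]).left ≫ 𝟙 _))
      let l : K ⟶ P := pullback.lift (pullback.fst j h) (toUnit K) (by
        rw [MonObj.comp_pow, Category.comp_id, ← cancel_mono j, MonObj.pow_comp, Category.assoc (toUnit K),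
          IsMonHom.one_hom j, ← Hom.one_def, ← hvp, pullback.condition, Category.assoc, hh, MonObj.comp_one])
      haveI : IsClosedImmersion (pullback.fst j h).left :=
        MorphismProperty.of_isPullback (MultExtSch.isPullback_left (IsPullback.of_hasPullback j h)).flip inferInstance
      haveI : IsClosedImmersion η[M].left := by
        haveI : IsClosedImmersion (η[M].left ≫ M.hom) := by
          rw [show η[M].left ≫ M.hom = 𝟙 _ from Over.w η[M]]
          exact (inferInstance : IsClosedImmersion (𝟙 (Spec (CommRingCat.of k))))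
        exact IsClosedImmersion.of_comp η[M].left M.hom
      haveI : IsClosedImmersion (pullback.fst (𝟙 M ^ (p ^ N) : M ⟶ M) η[M]).left :=
        MorphismProperty.of_isPullback hpP.flip inferInstance
      haveI : IsClosedImmersion l.left := by
        haveI : IsClosedImmersion (l.left ≫ (pullback.fst (𝟙 M ^ (p ^ N) : M ⟶ M) η[M]).left) := by
          rw [← Over.comp_left, pullback.lift_fst]
          infer_instance
        exact IsClosedImmersion.of_comp l.left (pullback.fst (𝟙 M ^ (p ^ N) : M ⟶ M) η[M]).left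
      rw [← Over.w l]
      infer_instance
  · haveI : CharP k 0 := h0 ▸ ringChar.charP k
    haveI : CharZero k := CharP.charP_to_charZero k
    haveI := CommUnip.isHopfIdeal_unipIdeal (k := k) (A := A)
    let πI : A →ₐc[k] A ⧸ CommUnip.unipIdeal k A := Bialgebra.Quotient.mkBialgHom (R := k) _
    haveI := isMonHom_wmap πI
    let H := W k (A ⧸ CommUnip.unipIdeal k A)
    let h : H ⟶ G := wmap (πI : A →ₐ[k] A ⧸ CommUnip.unipIdeal k A) ≫ a
    haveI : IsClosedImmersion h.left := by
      haveI : IsIso a.left := ((Over.forget _).mapIso (asIso a)).isIso_hom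
      haveI : IsClosedImmersion (wmap (πI : A →ₐ[k] A ⧸ CommUnip.unipIdeal k A)).left :=
        isClosedImmersion_wmap Ideal.Quotient.mk_surjective
      rw [Over.comp_left]
      infer_instance
    obtain ⟨g, hg⟩ := exists_factor_mult eA j hMmax
    let θ := AlgEquiv.ofBijective _ (CommUnip.bijective_mulMap (k := k) (A := A))
    refine ⟨H, inferInstance, h, inferInstance, inferInstance, surjective_of_geom _ fun Ω _ _ _ x => ?_,
      isFinite_inter j h ?_⟩
    · obtain ⟨α, hα⟩ := exists_wmap (x ≫ inv a)
      let β := α.comp θ.symm.toAlgHom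
      let m := β.comp Algebra.TensorProduct.includeLeft
      let w := β.comp Algebra.TensorProduct.includeRight
      refine ⟨lift (wmap m ≫ g) (wmap w), ?_⟩
      rw [← Category.assoc, lift_map, ← Hom.mul_def, Category.assoc, hg, ← Category.assoc, ← Category.assoc,
        wmap_comp, wmap_comp, ← MonObj.mul_comp, ← mapMulEquiv_apply, ← mapMulEquiv_apply, ← map_mul]
      refine (congrArg (· ≫ a) ?_).trans (show wmap α ≫ a = x by rw [hα]; simp)
      rw [← mapMulEquiv_apply]
      refine congrArg _ (WithConv.ext (AlgHom.ext fun z => ?_))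
      rw [AlgHom.convMul_apply]
      have e : Algebra.TensorProduct.lift (m.comp (Ideal.Quotient.mkₐ k (CommUnip.multIdeal k A)))
          (w.comp (πI : A →ₐ[k] A ⧸ CommUnip.unipIdeal k A)) (fun _ _ => Commute.all _ _) =
          β.comp (Algebra.TensorProduct.map (Ideal.Quotient.mkₐ k (CommUnip.multIdeal k A))
            (Ideal.Quotient.mkₐ k (CommUnip.unipIdeal k A))) := by
        refine Algebra.TensorProduct.ext' fun p q => ?_
        simp only [Algebra.TensorProduct.lift_tmul, AlgHom.comp_apply, Algebra.TensorProduct.map_tmul, m, w,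
          Algebra.TensorProduct.includeLeft_apply, Algebra.TensorProduct.includeRight_apply, ← map_mul,
          Algebra.TensorProduct.tmul_mul_tmul, _root_.mul_one, _root_.one_mul]
        rfl
      refine (congr($e (Coalgebra.comul (R := k) z))).trans ?_
      show α (θ.symm (θ z)) = α z
      rw [θ.symm_apply_apply]
    · let K := pullback j h
      have hz : ∀ z : A, z - algebraMap k A (Coalgebra.counit (R := k) z) ∈
          CommUnip.multIdeal k A ⊔ CommUnip.unipIdeal k A := by
        intro z
        rw [← Ideal.Quotient.eq]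
        have hz : z ∈ CommUnip.prodSpan k A := by rw [CommUnip.prodSpan_eq_top]; trivial
        unfold CommUnip.prodSpan at hz
        obtain ⟨t, rfl⟩ := hz
        induction t using TensorProduct.induction_on with
        | zero => simp
        | add p q hp hq => rw [map_add, map_add, map_add, map_add, map_add, hp, hq]
        | tmul d u =>
          obtain ⟨d, hd⟩ := d
          obtain ⟨u, n, hu⟩ := u
          show Ideal.Quotient.mk _ (d * u) = Ideal.Quotient.mk _ (algebraMap k A (Coalgebra.counit (R := k) (d * u)))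
          have h1 : Ideal.Quotient.mk (CommUnip.multIdeal k A ⊔ CommUnip.unipIdeal k A) d =
              Ideal.Quotient.mk _ (algebraMap k A (Coalgebra.counit (R := k) d)) :=
            Ideal.Quotient.eq.2 (Ideal.mem_sup_right (CommUnip.sub_counit_mem_unipIdeal hd))
          have h2 : Ideal.Quotient.mk (CommUnip.multIdeal k A ⊔ CommUnip.unipIdeal k A) u =
              Ideal.Quotient.mk _ (algebraMap k A (Coalgebra.counit (R := k) u)) :=
            Ideal.Quotient.eq.2 (Ideal.mem_sup_left (CommUnip.sub_counit_mem hu))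
          rw [map_mul, h1, h2, ← map_mul, ← map_mul, Bialgebra.counit_mul]
      have hone : pullback.fst j h ≫ j = 1 := by
        refine FixedSmooth.hom_ext_affine _ _ fun B q w => ?_
        obtain ⟨φB, rfl⟩ := Spec.map_surjective q
        letI : Algebra k B := φB.hom.toAlgebra
        let s : W k B ⟶ K := w
        obtain ⟨α, hα⟩ := exists_wmap (s ≫ pullback.fst j h ≫ j ≫ inv a)
        obtain ⟨βm, hβm⟩ := exists_wmap (s ≫ pullback.fst j h ≫ inv c)
        obtain ⟨βh, hβh⟩ := exists_wmap (show W k B ⟶ W k (A ⧸ CommUnip.unipIdeal k A) from s ≫ pullback.snd j h)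
        have h1 : α = βm.comp (φ : A →ₐ[k] C) := wmap_injective ((cancel_mono a).1 (by
          rw [← wmap_comp, hα, hβm]
          simp only [Category.assoc, a]
          rw [← hφ]
          simp [c]))
        have h2 : α = βh.comp (πI : A →ₐ[k] A ⧸ CommUnip.unipIdeal k A) := wmap_injective (by
          rw [← wmap_comp, hα, hβh]
          have : pullback.fst j h ≫ j = pullback.snd j h ≫ h := pullback.condition
          rw [← Category.assoc (pullback.fst j h), this]
          simp [h])
        have hker : ∀ z ∈ CommUnip.multIdeal k A ⊔ CommUnip.unipIdeal k A, α z = 0 := by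
          refine fun z hz => (sup_le ?_ ?_ : _ ≤ RingHom.ker α) hz
          · intro z hz
            rw [RingHom.mem_ker, h1, AlgHom.comp_apply, show (φ : A →ₐ[k] C) z = 0 from hk.ge hz, map_zero]
          · intro z hz
            rw [RingHom.mem_ker, h2, AlgHom.comp_apply,
              show (πI : A →ₐ[k] A ⧸ CommUnip.unipIdeal k A) z = 0 from Ideal.Quotient.eq_zero_iff_mem.2 hz, map_zero]
        have h3 : toConv α = 1 := WithConv.ext (AlgHom.ext fun z => by
          have := hker _ (hz z)
          rw [map_sub, AlgHom.commutes, sub_eq_zero] at this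
          rw [AlgHom.convOne_apply]
          exact this)
        have h4 : s ≫ pullback.fst j h ≫ j ≫ inv a = 1 := by
          rw [← hα, ← mapMulEquiv_apply, h3, map_one]
        have h5 := congrArg (· ≫ a) h4
        simp only [Category.assoc, IsIso.inv_hom_id, Category.comp_id, MonObj.one_comp] at h5
        show s ≫ pullback.fst j h ≫ j = s ≫ 1
        rw [h5, MonObj.comp_one]
      have hfst : pullback.fst j h = toUnit K ≫ η[M] := by
        rw [← cancel_mono j, hone, Category.assoc, IsMonHom.one_hom j, Hom.one_def]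
      haveI : IsClosedImmersion (pullback.fst j h).left :=
        MorphismProperty.of_isPullback (MultExtSch.isPullback_left (IsPullback.of_hasPullback j h)).flip inferInstance
      haveI : IsClosedImmersion η[M].left := by
        haveI : IsClosedImmersion (η[M].left ≫ M.hom) := by
          rw [show η[M].left ≫ M.hom = 𝟙 _ from Over.w η[M]]
          exact (inferInstance : IsClosedImmersion (𝟙 (Spec (CommRingCat.of k))))
        exact IsClosedImmersion.of_comp η[M].left M.hom
      haveI : IsClosedImmersion ((toUnit K).left ≫ η[M].left) := by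
        rw [← Over.comp_left, ← hfst]
        infer_instance
      haveI := IsClosedImmersion.of_comp (toUnit K).left η[M].left
      rw [← Over.w (toUnit K)]
      exact (inferInstance : IsFinite ((toUnit K).left ≫ 𝟙 _))

end Groth.Agent.CommUnipSch
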